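import Cfsg.Agent.Lib.Helper86.L37.ONSig

/-!
# The order of the subgroup `⟨a, …, f⟩` of the presented O'Nan group is `3753792`
-/

set_option autoImplicit false

namespace Cfsg.Agent.Lib.Helper86.ONCard

open Cfsg.Agent.Lib.Helper86.ONL37 Cfsg.Agent.Lib.Helper86.ONPerm
open Cfsg.Agent.Lib.Helper86.ONOrd (gg e6 H6 H6_card)
open Cfsg.Agent.Lib.Helper29.OrdBasic Cfsg.Spor

theorem card_HH : Nat.card HH = 3753792 := by
  obtain ⟨hfin, hc⟩ := H6_card
  have hfin0 : Finite N0 :=
    Finite.of_injective (Subgroup.inclusion N0_le) (Subgroup.inclusion_injective N0_le)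
  have h1 : 1876896 ≤ Nat.card sig.range := card_range_ge
  have h5 : Nat.card sig.range ≤ Nat.card N0 := card_range_le sig
  have h6 : Nat.card (N0.subgroupOf HH) = Nat.card N0 :=
    Nat.card_congr (Subgroup.subgroupOfEquivOfLe N0_le).toEquiv
  have h7 : N0.subgroupOf HH ≠ ⊤ := by
    intro h
    have ht : (⟨gg e6 0, gg_mem (by norm_num)⟩ : HH) ∈ N0.subgroupOf HH := by
      rw [h]
      trivial
    rw [Subgroup.mem_subgroupOf] at ht
    exact t_not_mem (N0_le_TT ht)
  have h8 : (N0.subgroupOf HH).index ≠ 1 := fun h => h7 (Subgroup.index_eq_one.1 h)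
  have h9 : (N0.subgroupOf HH).index ≠ 0 := Subgroup.index_ne_zero_of_finite
  have h10 := Subgroup.card_mul_index (N0.subgroupOf HH)
  have h11 : 1876896 * 2 ≤ Nat.card (N0.subgroupOf HH) * (N0.subgroupOf HH).index :=
    Nat.mul_le_mul (by omega) (by omega)
  have hc' : Nat.card HH ≤ 3753792 := hc
  omega

/-- the subgroup generated by the images of `a, …, f` in the presented O'Nan group is finite of
order `3753792` -/
theorem card_H : Finite ((Subgroup.closure ({ON.a, ON.b, ON.c, ON.d, ON.e, ON.f} :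
      Set (FreeGroup ON.Gen))).map
      (PresentedGroup.mk (coxRelators ON.edges ∪ {r | r ∈ ON.extra}))) ∧
    Nat.card ((Subgroup.closure ({ON.a, ON.b, ON.c, ON.d, ON.e, ON.f} :
      Set (FreeGroup ON.Gen))).map
      (PresentedGroup.mk (coxRelators ON.edges ∪ {r | r ∈ ON.extra}))) = 3753792 := by
  rw [H_eq]
  exact ⟨H6_card.1, card_HH⟩

end Cfsg.Agent.Lib.Helper86.ONCard
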