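import Cfsg.Agent.Lib.Helper28.TCMain
import Cfsg.Agent.Lib.Helper28.PresON
import Cfsg.Agent.Lib.Helper28.T1692LC0
import Cfsg.Agent.Lib.Helper28.T1692LC1
import Cfsg.Agent.Lib.Helper28.T1692LC2
import Cfsg.Agent.Lib.Helper28.T1692LC3
import Cfsg.Agent.Lib.Helper28.T1692LC4
import Cfsg.Agent.Lib.Helper28.T1692LC5
import Cfsg.Agent.Lib.Helper28.T1692LC6
import Cfsg.Agent.Lib.Helper28.T1692LC7
import Cfsg.Agent.Lib.Helper28.T1692LC8
import Cfsg.Agent.Lib.Helper28.T1692LC9
import Cfsg.Agent.Lib.Helper28.T1692LC10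
import Cfsg.Agent.Lib.Helper28.T1692LC11
import Cfsg.Agent.Lib.Helper28.T1692LC12
import Cfsg.Agent.Lib.Helper28.T1692LC13
import Cfsg.Agent.Lib.Helper28.T1692LC14
import Cfsg.Agent.Lib.Helper28.T1692LC15
import Cfsg.Agent.Lib.Helper28.T1692LC16
import Cfsg.Agent.Lib.Helper28.T1692LC17
import Cfsg.Agent.Lib.Helper28.T1692LC18
import Cfsg.Agent.Lib.Helper28.T1692LC19
import Cfsg.Agent.Lib.Helper28.T1692LC20
import Cfsg.Agent.Lib.Helper28.T1692LC21
import Cfsg.Agent.Lib.Helper28.T1692LC22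
import Cfsg.Agent.Lib.Helper28.T1692LC23
import Cfsg.Agent.Lib.Helper28.T1692LC24
import Cfsg.Agent.Lib.Helper28.T1692LC25
import Cfsg.Agent.Lib.Helper28.T1692LC26
import Cfsg.Agent.Lib.Helper28.T1692LC27
import Cfsg.Agent.Lib.Helper28.T1692LC28
import Cfsg.Agent.Lib.Helper28.T1692LC29
import Cfsg.Agent.Lib.Helper28.T1692LC30
import Cfsg.Agent.Lib.Helper28.T1692LC31

/-!
# The permutation representation of the presented O'Nan group on 122760 points

The table and its kernel checks are those of `Cfsg.Agent.Lib.Helper28.T1692LT`; only the checks of the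
permutation table are used here.
-/

set_option autoImplicit false

namespace Cfsg.Agent.Lib.Helper86.ONPerm

open Cfsg.Spor Cfsg.Agent.Lib.Helper28 Cfsg.Agent.Lib.Helper28.TCKernel Cfsg.Agent.Lib.Helper28.TCSound
open Cfsg.Agent.Lib.Helper28.TCPerm Cfsg.Agent.Lib.Helper28.TCPres

theorem chunkL : ∀ k, k < 32 → allTree T1692LT.chkPoint 12 (k * 2 ^ 12) = true
  | 0, _ => T1692LC0.chk
  | 1, _ => T1692LC1.chk
  | 2, _ => T1692LC2.chk
  | 3, _ => T1692LC3.chk
  | 4, _ => T1692LC4.chk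
  | 5, _ => T1692LC5.chk
  | 6, _ => T1692LC6.chk
  | 7, _ => T1692LC7.chk
  | 8, _ => T1692LC8.chk
  | 9, _ => T1692LC9.chk
  | 10, _ => T1692LC10.chk
  | 11, _ => T1692LC11.chk
  | 12, _ => T1692LC12.chk
  | 13, _ => T1692LC13.chk
  | 14, _ => T1692LC14.chk
  | 15, _ => T1692LC15.chk
  | 16, _ => T1692LC16.chk
  | 17, _ => T1692LC17.chk
  | 18, _ => T1692LC18.chk
  | 19, _ => T1692LC19.chk
  | 20, _ => T1692LC20.chk
  | 21, _ => T1692LC21.chk
  | 22, _ => T1692LC22.chk
  | 23, _ => T1692LC23.chk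
  | 24, _ => T1692LC24.chk
  | 25, _ => T1692LC25.chk
  | 26, _ => T1692LC26.chk
  | 27, _ => T1692LC27.chk
  | 28, _ => T1692LC28.chk
  | 29, _ => T1692LC29.chk
  | 30, _ => T1692LC30.chk
  | 31, _ => T1692LC31.chk
  | (k + 32), h => absurd h (by omega)

theorem chkL (a : Nat) (ha : a < 122760) : T1692LT.chkPoint a = true :=
  allTree_chunks T1692LT.chkPoint 12 32 chunkL a (lt_of_lt_of_le ha (by decide))

theorem permOK : PermChecks 122760 T1692LT.tp PresON.inv T1692LT.pa T1692LT.pl PresON.relW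
    T1692LT.sgW T1692LT.tw 12 T1692LT.roots 8 where
  point := fun a ha => chkL a ha
  invL := by decide +kernel
  wsL := by decide +kernel
  sgL := by decide +kernel
  twL := by decide +kernel
  root1 := by decide +kernel
  rootpos := by decide +kernel

/-- the presented O'Nan group -/
abbrev G := Grp ON.edges ON.extra

/-- the letters `g, g⁻¹, a, …, f` -/
noncomputable abbrev lt : ℕ → G := ltG ON.edges ON.extra PresON.dec

theorem ex_phi : ∃ φ : G →* Equiv.Perm (Fin 122760), ∀ y, y < 8 → φ (lt y) = letterPerm permOK y :=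
  exists_hom PresON.ok (letterPerm permOK) (letterPerm_inv permOK) (letterPerm_rel permOK)

/-- the permutation representation on 122760 points -/
noncomputable def φ : G →* Equiv.Perm (Fin 122760) := Classical.choose ex_phi

theorem φ_lt (y : ℕ) (hy : y < 8) : φ (lt y) = letterPerm permOK y :=
  Classical.choose_spec ex_phi y hy

theorem φ_apply {y : ℕ} (h2 : 2 ≤ y) (h8 : y < 8) (a : Fin 122760) :
    ((φ (lt y) a : Fin 122760) : ℕ) = T1692LT.tp y a.1 := by
  rw [φ_lt y h8, letterPerm_apply permOK y h8]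
  have : PresON.inv y = y := by interval_cases y <;> rfl
  rw [this]

end Cfsg.Agent.Lib.Helper86.ONPerm
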