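import Cfsg.Agent.Lib.Helper86.L37.SL37

/-!
# The action of `PSL₃(7)` on the 57 points of `PG(2,7)`
-/

set_option autoImplicit false

namespace Cfsg.Agent.Lib.Helper86.PSL37

open Matrix Cfsg.Agent.Lib.Helper86.SL37

/-! ### the centre and the order of `PSL₃(7)` -/

theorem scalar_mulVec (r : K) (v : V) : (Matrix.scalar (Fin 3) r) *ᵥ v = r • v := by
  funext i
  rw [mulVec3]
  fin_cases i <;> simp [Matrix.scalar, Matrix.diagonal]

theorem det_scalar (r : K) (h : r ^ 3 = 1) : (Matrix.scalar (Fin 3) r).det = 1 := by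
  rw [Matrix.det_fin_three]
  simp only [Matrix.scalar]
  simp
  rw [← h]
  ring

/-- the scalar matrices of determinant one -/
def zs (r : K) (h : r ^ 3 = 1) : SL := ⟨Matrix.scalar (Fin 3) r, det_scalar r h⟩

theorem zs_mem (r : K) (h : r ^ 3 = 1) : zs r h ∈ Subgroup.center SL :=
  Matrix.SpecialLinearGroup.mem_center_iff.2 ⟨r, by simpa using h, rfl⟩

theorem card_center_ge : 3 ≤ Nat.card (Subgroup.center SL) := by
  let f : Fin 3 → Subgroup.center SL := fun i =>
    ⟨zs (![1, 2, 4] i) (by fin_cases i <;> decide), zs_mem _ _⟩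
  have hf : Function.Injective f := by
    intro i j hij
    have h1 : (f i).1.1 0 0 = (f j).1.1 0 0 := by rw [hij]
    have h2 : ∀ k : Fin 3, (f k).1.1 0 0 = ![(1 : K), 2, 4] k := by
      intro k
      simp [f, zs, Matrix.scalar, Matrix.diagonal]
    rw [h2, h2] at h1
    revert h1
    fin_cases i <;> fin_cases j <;> decide
  have := Nat.card_le_card_of_injective f hf
  rwa [Nat.card_fin] at this

/-- the order of `PSL₃(7)` is at most `1876896` -/
theorem card_PSL_le : Nat.card PSL ≤ 1876896 := by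
  have h1 := Subgroup.card_mul_index (Subgroup.center SL)
  have h2 := card_center_ge
  have h3 := card_SL_le
  have h4 : Nat.card PSL = (Subgroup.center SL).index := rfl
  rw [h4]
  have h5 : 3 * (Subgroup.center SL).index ≤ Nat.card (Subgroup.center SL) * (Subgroup.center SL).index :=
    Nat.mul_le_mul_right _ h2
  omega

/-! ### the points -/

/-- packed coordinates of the 57 points: 9 bits per point -/
def VT : ℕ := 0x1b1b8cc5e2b1388c7536994ba5526914e86c32170a84c221ccd6632d94c9643391a8c45a29128847134984b25124904e06830160a048201c452210c8441201040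

/-- packed point index of each vector code: 6 bits per code -/
def PT : ℕ := 0x10a30620e025d38a6d7115ebd4d19a8695add1ba30ecda97d2704ce16ed9d51c930d28b380465b9a8f70d8420a38c027ec4b67291265f54f1885b739e155b1f4799bea5062892cc38d012a6c71fd846547aad2f1a0c10e18a029dbcd5b611eede58d1683d625f199314b34938a3004e6c578b515a463977b8386d5736e71e8638430802bf4a9e5191b67dcb2948430a38934b014aaf65ed066d5867ced1e2c53d57985a5cd92b1f130e28810602de36ae9510cd38c2c9280567b5b8731dc49fa76b048ee4776a50ea67452f786c759a24d7178818c2840238b28d30900f92b59dc8158f764cab05dacfc96901916c8fadd06bca474f581c9d5ab90f04820820823f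

def cd (p j : ℕ) : K := (((VT >>> (9 * p + 3 * j)) &&& 7 : ℕ) : K)

def pt3 (a b c : K) : ℕ := (PT >>> (6 * (a.val + 7 * b.val + 49 * c.val))) &&& 63

def vec (p : ℕ) : V := mkV (cd p 0) (cd p 1) (cd p 2)

def pt (v : V) : ℕ := pt3 (v 0) (v 1) (v 2)

theorem D1 : ∀ a b c : K, (a, b, c) ≠ (0, 0, 0) → ∃ k : K, k ≠ 0 ∧
    cd (pt3 a b c) 0 = k * a ∧ cd (pt3 a b c) 1 = k * b ∧ cd (pt3 a b c) 2 = k * c := by
  decide +kernel

theorem D2 : ∀ k a b c : K, k ≠ 0 → pt3 (k * a) (k * b) (k * c) = pt3 a b c := by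
  decide +kernel

theorem D3 : ∀ p, p < 57 → pt3 (cd p 0) (cd p 1) (cd p 2) = p := by decide +kernel

theorem D4 : ∀ p, p < 57 → (cd p 0, cd p 1, cd p 2) ≠ ((0 : K), (0 : K), (0 : K)) := by
  decide +kernel

theorem D5 : ∀ a b c : K, (a, b, c) ≠ (0, 0, 0) → pt3 a b c < 57 := by decide +kernel

theorem pt_vec {p : ℕ} (hp : p < 57) : pt (vec p) = p := D3 p hp

theorem vec_ne {p : ℕ} (hp : p < 57) : vec p ≠ 0 := by
  intro h
  apply D4 p hp
  have h0 := congrFun h 0
  have h1 := congrFun h 1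
  have h2 := congrFun h 2
  change cd p 0 = 0 at h0
  change cd p 1 = 0 at h1
  change cd p 2 = 0 at h2
  rw [h0, h1, h2]

theorem pt_lt {v : V} (hv : v ≠ 0) : pt v < 57 := D5 _ _ _ (tup_ne hv)

theorem smul_mkV (k a b c : K) : k • mkV a b c = mkV (k * a) (k * b) (k * c) := by
  funext i
  fin_cases i <;> rfl

theorem vec_pt {w : V} (hw : w ≠ 0) : ∃ k : K, k ≠ 0 ∧ vec (pt w) = k • w := by
  obtain ⟨k, hk, h0, h1, h2⟩ := D1 _ _ _ (tup_ne hw)
  refine ⟨k, hk, ?_⟩
  conv_rhs => rw [eta w, smul_mkV]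
  unfold vec
  change mkV (cd (pt3 _ _ _) 0) (cd (pt3 _ _ _) 1) (cd (pt3 _ _ _) 2) = _
  rw [h0, h1, h2]

theorem pt_smul {k : K} (hk : k ≠ 0) (u : V) : pt (k • u) = pt u :=
  D2 k _ _ _ hk

instance actP : MulAction SL (Fin 57) where
  smul A i := ⟨pt (A.1 *ᵥ vec i.1) % 57, Nat.mod_lt _ (by norm_num)⟩
  one_smul i := by
    apply Fin.ext
    change pt ((1 : Matrix (Fin 3) (Fin 3) K) *ᵥ vec i.1) % 57 = i.1
    rw [Matrix.one_mulVec, pt_vec i.2, Nat.mod_eq_of_lt i.2]
  mul_smul A B i := by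
    apply Fin.ext
    change pt ((A.1 * B.1) *ᵥ vec i.1) % 57 = pt (A.1 *ᵥ vec (pt (B.1 *ᵥ vec i.1) % 57)) % 57
    have hw : B.1 *ᵥ vec i.1 ≠ 0 := smul_ne_zero B _ (vec_ne i.2)
    obtain ⟨k, hk, hv⟩ := vec_pt hw
    rw [Nat.mod_eq_of_lt (pt_lt hw), hv, Matrix.mulVec_smul, pt_smul hk, Matrix.mulVec_mulVec]

/-- the permutation representation of `SL₃(7)` on the 57 points -/
noncomputable def tauSL : SL →* Equiv.Perm (Fin 57) := MulAction.toPermHom SL (Fin 57)

theorem tauSL_apply (A : SL) (i : Fin 57) : ((tauSL A i : Fin 57) : ℕ) = pt (A.1 *ᵥ vec i.1) := by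
  change pt (A.1 *ᵥ vec i.1) % 57 = _
  exact Nat.mod_eq_of_lt (pt_lt (smul_ne_zero A _ (vec_ne i.2)))

theorem center_le_ker : Subgroup.center SL ≤ tauSL.ker := by
  intro A hA
  obtain ⟨r, hr, hA'⟩ := Matrix.SpecialLinearGroup.mem_center_iff.1 hA
  have hr0 : r ≠ 0 := by
    rintro rfl
    simp at hr
    exact absurd hr (by decide)
  rw [MonoidHom.mem_ker]
  apply Equiv.ext
  intro i
  apply Fin.ext
  rw [tauSL_apply, ← hA', scalar_mulVec, pt_smul hr0, pt_vec i.2]
  rfl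

/-- the permutation representation of `PSL₃(7)` on the 57 points -/
noncomputable def tau : PSL →* Equiv.Perm (Fin 57) :=
  QuotientGroup.lift (Subgroup.center SL) tauSL center_le_ker

theorem tau_mk (A : SL) : tau (QuotientGroup.mk A) = tauSL A := rfl

/-! ### explicit matrices from codes -/

def en (m i j : ℕ) : K := (((m >>> (3 * (3 * i + j))) &&& 7 : ℕ) : K)

def mkM (m : ℕ) : Matrix (Fin 3) (Fin 3) K := fun i j => en m i.1 j.1

def dotN (m i p : ℕ) : K := en m i 0 * cd p 0 + en m i 1 * cd p 1 + en m i 2 * cd p 2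

def actN (m p : ℕ) : ℕ := pt3 (dotN m 0 p) (dotN m 1 p) (dotN m 2 p)

theorem pt_mkM (m p : ℕ) : pt (mkM m *ᵥ vec p) = actN m p := by
  unfold pt
  rw [mulVec3, mulVec3, mulVec3]
  rfl

/-- the determinant of the matrix with code `m`, by the rule of Sarrus -/
def detN (m : ℕ) : K :=
  en m 0 0 * en m 1 1 * en m 2 2 - en m 0 0 * en m 1 2 * en m 2 1 - en m 0 1 * en m 1 0 * en m 2 2
    + en m 0 1 * en m 1 2 * en m 2 0 + en m 0 2 * en m 1 0 * en m 2 1 - en m 0 2 * en m 1 1 * en m 2 0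

theorem det_mkM (m : ℕ) : (mkM m).det = detN m := by
  rw [Matrix.det_fin_three]
  rfl

/-- the matrix of determinant one with code `m` -/
def mkS (m : ℕ) (h : detN m = 1) : SL := ⟨mkM m, (det_mkM m).trans h⟩

theorem tau_mkS (m : ℕ) (h : detN m = 1) (i : Fin 57) :
    ((tau (QuotientGroup.mk (mkS m h)) i : Fin 57) : ℕ) = actN m i.1 := by
  rw [tau_mk, tauSL_apply]
  exact pt_mkM m i.1

end Cfsg.Agent.Lib.Helper86.PSL37
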